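import Groth.Agent.L20.GenSmooth.Ring
import Groth.Agent.L18.NormalizationField
import Groth.Agent.L00.NagataNorm
import Groth.Agent.L03.GRingInt
import Groth.Agent.L05.Smooth.GeomRegular
import Mathlib.RingTheory.DedekindDomain.Basic
import Mathlib.RingTheory.Etale.Descent
import Mathlib.RingTheory.RegularLocalRing.Defs
import Mathlib.RingTheory.Spectrum.Prime.Homeomorph

/-!
# Smoothness of the normalised reduced base change of a curve to a large purely inseparable field
-/

set_option autoImplicit false
set_option linter.style.haveILetI false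
set_option maxSynthPendingDepth 3
set_option backward.isDefEq.respectTransparency.types false

universe u

open TensorProduct

namespace Groth.L05.CurveNorm

open Groth.L20.GenSmooth (incl)

variable {k : Type u} [Field k]

theorem isPrime_nilradical_tensor (A P : Type u) [CommRing A] [IsDomain A] [Algebra k A] [Field P]
    [Algebra k P] [IsPurelyInseparable k P] : (nilradical (P ⊗[k] A)).IsPrime := by
  rw [← PrimeSpectrum.irreducibleSpace_iff_isPrime_nilradical]
  have h := (PrimeSpectrum.isHomeomorph_comap_of_isPurelyInseparable (k := k) (K := P) (R := A))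
  have e := (PrimeSpectrum.homeomorphOfRingEquiv (Algebra.TensorProduct.comm k P A).toRingEquiv).trans
    h.homeomorph
  haveI : IrreducibleSpace (PrimeSpectrum A) := inferInstance
  exact { toNonempty := ⟨e.symm (Classical.arbitrary _)⟩
          isPreirreducible_univ := by
            have := (IrreducibleSpace.isIrreducible_univ (PrimeSpectrum A)).isPreirreducible.image
              e.symm e.symm.continuous.continuousOn
            rwa [Set.image_univ, e.symm.surjective.range_eq] at this }

/-- A Dedekind domain of finite type over a perfect field is smooth. -/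
theorem smooth_of_dedekind (P C : Type u) [Field P] [PerfectField P] [CommRing C] [IsDedekindDomain C]
    [Algebra P C] [Algebra.FiniteType P C] : Algebra.Smooth P C :=
  Groth.L05.Smooth.smooth_of_geometricallyRegular P C (Groth.L03.GRingInt.geomReg_of_perfect P C)

/-- Descending the integral closure from a perfect extension. -/
theorem smooth_integralClosure_descend {L P R R' K' F : Type u} [Field L] [Field P] [Algebra L P]
    [CommRing R] [IsDomain R] [CommRing R'] [IsDomain R'] [Algebra L R'] [Algebra P R]
    [Algebra L R] [IsScalarTower L P R] [Algebra.IsAlgebraic L P]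
    [Field K'] [Algebra R' K'] [IsFractionRing R' K'] [Algebra L K'] [IsScalarTower L R' K']
    [Field F] [Algebra R F] [IsFractionRing R F] [Algebra P F] [IsScalarTower P R F]
    [Algebra L F] [IsScalarTower L P F]
    (φ : R' →ₐ[L] R) (hφ : Function.Bijective
      (Algebra.TensorProduct.lift (Algebra.ofId P R) φ fun _ _ => .all _ _))
    [Algebra.Smooth P (integralClosure R F)] (T : Finset F)
    (hT : Submodule.span R (T : Set F) = Subalgebra.toSubmodule (integralClosure R F))
    (hfrac : ∀ b ∈ T, ∃ x y : R', φ y ≠ 0 ∧ b * algebraMap R F (φ y) = algebraMap R F (φ x)) :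
    Algebra.Smooth L (integralClosure R' K') := by
  haveI : IsScalarTower L R F := IsScalarTower.of_algebraMap_eq fun x => by
    rw [IsScalarTower.algebraMap_apply L P F, IsScalarTower.algebraMap_apply P R F,
      ← IsScalarTower.algebraMap_apply L P R]
  set M := Algebra.TensorProduct.lift (Algebra.ofId P R) φ fun _ _ => .all _ _ with hM
  have hMt : ∀ (p : P) (x : R'), M (p ⊗ₜ x) = algebraMap P R p * φ x := fun p x => by
    rw [hM, Algebra.TensorProduct.lift_tmul]; rfl
  have hφinj : Function.Injective φ := fun x y h => by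
    refine Algebra.TensorProduct.includeRight_injective (A := P) (algebraMap L P).injective (hφ.1 ?_)
    show M (1 ⊗ₜ x) = M (1 ⊗ₜ y)
    rw [hMt, hMt, h]
  -- the map of fraction fields
  have hunit : ∀ y : nonZeroDivisors R', IsUnit ((algebraMap R F).comp φ.toRingHom y) := fun y =>
    Ne.isUnit fun h => nonZeroDivisors.ne_zero y.2 (hφinj (by
      rw [map_zero]
      exact IsFractionRing.injective R F (by rw [map_zero]; exact h)))
  let χ₀ : K' →+* F := IsLocalization.lift hunit
  have hχ₀ : ∀ x, χ₀ (algebraMap R' K' x) = algebraMap R F (φ x) := fun x => IsLocalization.lift_eq hunit x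
  let χ : K' →ₐ[L] F :=
    { χ₀ with
      commutes' := fun c => by
        show χ₀ (algebraMap L K' c) = _
        rw [IsScalarTower.algebraMap_apply L R' K', hχ₀, AlgHom.commutes, ← IsScalarTower.algebraMap_apply] }
  have hχ : ∀ x, χ (algebraMap R' K' x) = algebraMap R F (φ x) := hχ₀
  let MK : P ⊗[L] K' →ₐ[P] F :=
    Algebra.TensorProduct.lift (Algebra.ofId P F) χ fun _ _ => .all _ _
  have hMKt : ∀ (p : P) (x : K'), MK (p ⊗ₜ x) = algebraMap P F p * χ x := fun p x => by
    rw [show MK (p ⊗ₜ x) = _ from Algebra.TensorProduct.lift_tmul _ _ _ _ _]; rfl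
  -- injectivity by clearing denominators
  let j : P ⊗[L] R' →ₐ[P] P ⊗[L] K' :=
    Algebra.TensorProduct.map (AlgHom.id P P) (IsScalarTower.toAlgHom L R' K')
  have hj : ∀ w, MK (j w) = algebraMap R F (M w) := fun w => by
    induction w using TensorProduct.induction_on with
    | zero => simp
    | tmul p x =>
      rw [show j (p ⊗ₜ x) = p ⊗ₜ algebraMap R' K' x from rfl, hMKt, hMt, hχ, map_mul,
        ← IsScalarTower.algebraMap_apply]
    | add a b ha hb => simp only [map_add, ha, hb]
  have hclear : ∀ z : P ⊗[L] K', ∃ y : R', y ≠ 0 ∧ ∃ w, ((1 : P) ⊗ₜ[L] algebraMap R' K' y) * z = j w := by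
    intro z
    induction z using TensorProduct.induction_on with
    | zero => exact ⟨1, one_ne_zero, 0, by rw [mul_zero, map_zero]⟩
    | tmul p c =>
      obtain ⟨a, b, hb, rfl⟩ := IsFractionRing.div_surjective (A := R') c
      refine ⟨b, nonZeroDivisors.ne_zero hb, p ⊗ₜ a, ?_⟩
      rw [Algebra.TensorProduct.tmul_mul_tmul, one_mul, mul_div_cancel₀ _
        (IsFractionRing.to_map_ne_zero_of_mem_nonZeroDivisors hb)]
      rfl
    | add a b ha hb =>
      obtain ⟨ya, hya, wa, hwa⟩ := ha
      obtain ⟨yb, hyb, wb, hwb⟩ := hb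
      refine ⟨ya * yb, mul_ne_zero hya hyb, (1 ⊗ₜ yb) * wa + (1 ⊗ₜ ya) * wb, ?_⟩
      rw [map_add, map_mul j, map_mul j, ← hwa, ← hwb,
        show j ((1 : P) ⊗ₜ[L] yb) = (1 : P) ⊗ₜ algebraMap R' K' yb from rfl,
        show j ((1 : P) ⊗ₜ[L] ya) = (1 : P) ⊗ₜ algebraMap R' K' ya from rfl, ← mul_assoc, ← mul_assoc,
        Algebra.TensorProduct.tmul_mul_tmul, Algebra.TensorProduct.tmul_mul_tmul, map_mul, one_mul,
        mul_add, mul_comm (algebraMap R' K' yb)]
  have hMK : Function.Injective MK := by
    rw [injective_iff_map_eq_zero]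
    intro z hz
    obtain ⟨y, hy, w, hw⟩ := hclear z
    have h0 : M w = 0 := IsFractionRing.injective R F (by
      rw [map_zero, ← hj, ← hw, map_mul, hz, mul_zero])
    rw [(injective_iff_map_eq_zero M).mp hφ.1 w h0, map_zero] at hw
    have hu : IsUnit ((1 : P) ⊗ₜ[L] algebraMap R' K' y) :=
      (Ne.isUnit ((map_ne_zero_iff _ (IsFractionRing.injective R' K')).mpr hy)).map
        (Algebra.TensorProduct.includeRight : K' →ₐ[L] P ⊗[L] K')
    exact hu.mul_right_eq_zero.mp hw
  -- integrality
  haveI : Algebra.IsIntegral L P := Algebra.IsAlgebraic.isIntegral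
  letI : Algebra R' R := φ.toRingHom.toAlgebra
  letI : Algebra R' F := ((algebraMap R F).comp φ.toRingHom).toAlgebra
  haveI : IsScalarTower R' R F := IsScalarTower.of_algebraMap_eq fun _ => rfl
  haveI : IsScalarTower L R' R := IsScalarTower.of_algebraMap_eq fun c => (φ.commutes c).symm
  haveI : Algebra.IsIntegral R' R := ⟨fun r => by
    obtain ⟨w, rfl⟩ := hφ.2 r
    induction w using TensorProduct.induction_on with
    | zero => rw [map_zero]; exact isIntegral_zero
    | tmul p x =>
      rw [hMt]
      have h1 : IsIntegral L (algebraMap P R p) :=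
        (Algebra.IsIntegral.isIntegral p).map (IsScalarTower.toAlgHom L P R)
      exact (h1.tower_top).mul isIntegral_algebraMap
    | add a b ha hb => rw [map_add]; exact ha.add hb⟩
  let χR : K' →ₐ[R'] F := { χ₀ with commutes' := hχ₀ }
  have hχint : ∀ c : K', IsIntegral R (χ c) ↔ IsIntegral R' c := fun c => by
    constructor
    · intro h
      have : IsIntegral R' (χR c) := isIntegral_trans (R := R') (A := R) (χ c) h
      exact (isIntegral_algHom_iff χR χR.toRingHom.injective).mp this
    · intro h
      exact IsIntegral.tower_top (h.map χR : IsIntegral R' (χR c))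
  let B0 := integralClosure R' K'
  let i : P ⊗[L] B0 →ₐ[P] P ⊗[L] K' :=
    Algebra.TensorProduct.map (AlgHom.id P P) (IsScalarTower.toAlgHom L B0 K')
  have hi : Function.Injective i :=
    Module.Flat.lTensor_preserves_injective_linearMap (IsScalarTower.toAlgHom L B0 K').toLinearMap
      Subtype.val_injective
  let Bt := (integralClosure R F).restrictScalars P
  have hmem : ∀ z, MK (i z) ∈ Bt := fun z => by
    induction z using TensorProduct.induction_on with
    | zero => rw [map_zero, map_zero]; exact zero_mem _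
    | tmul p c =>
      rw [show i (p ⊗ₜ c) = p ⊗ₜ (c : K') from rfl, hMKt]
      exact mul_mem (Bt.algebraMap_mem p) ((hχint _).mpr c.2)
    | add a b ha hb => rw [map_add, map_add]; exact add_mem ha hb
  let N : P ⊗[L] B0 →ₐ[P] Bt := (MK.comp i).codRestrict Bt hmem
  have hNv : ∀ z, (N z : F) = MK (i z) := fun _ => rfl
  have hN : Function.Bijective N := by
    refine ⟨fun a b h => hi (hMK ?_), fun z => ?_⟩
    · rw [← hNv, ← hNv, h]
    have hz : (z : F) ∈ Submodule.span R (T : Set F) := hT ▸ z.2
    obtain ⟨w, hw⟩ : ∃ w, MK (i w) = (z : F) := by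
      refine Submodule.span_induction (p := fun v _ => ∃ w, MK (i w) = v) ?_ ⟨0, by simp⟩ ?_ ?_ hz
      · intro b hb
        obtain ⟨x, y, hy, hxy⟩ := hfrac b hb
        set c := algebraMap R' K' x / algebraMap R' K' y
        have hy0 : algebraMap R F (φ y) ≠ 0 := (map_ne_zero_iff _ (IsFractionRing.injective R F)).mpr hy
        have hc : χ c = b := by
          rw [map_div₀, hχ, hχ, ← hxy, mul_div_cancel_right₀ _ hy0]
        have hcint : IsIntegral R' c := (hχint c).mp (hc.symm ▸ (hT ▸ Submodule.subset_span hb :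
          b ∈ Subalgebra.toSubmodule (integralClosure R F)))
        exact ⟨1 ⊗ₜ ⟨c, hcint⟩, by
          rw [show i ((1 : P) ⊗ₜ (⟨c, hcint⟩ : B0)) = (1 : P) ⊗ₜ c from rfl, hMKt, map_one, one_mul, hc]⟩
      · rintro a b - - ⟨wa, rfl⟩ ⟨wb, rfl⟩
        exact ⟨wa + wb, by rw [map_add, map_add]⟩
      · rintro r a - ⟨wa, rfl⟩
        obtain ⟨v, rfl⟩ := hφ.2 r
        refine ⟨Algebra.TensorProduct.map (AlgHom.id P P) (IsScalarTower.toAlgHom L R' B0) v * wa, ?_⟩
        rw [map_mul, map_mul, Algebra.smul_def, ← hj v]
        congr 2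
        induction v using TensorProduct.induction_on with
        | zero => simp
        | tmul p x => rfl
        | add a b ha hb => simp only [map_add, ha, hb]
    exact ⟨w, Subtype.ext hw⟩
  haveI : Algebra.Smooth P Bt := ‹Algebra.Smooth P (integralClosure R F)›
  haveI : Algebra.Smooth P (P ⊗[L] B0) := Algebra.Smooth.of_equiv (AlgEquiv.ofBijective N hN).symm
  exact Algebra.Smooth.of_smooth_tensorProduct_of_faithfullyFlat P

variable {A P : Type u} [CommRing A] [IsDomain A] [Algebra k A] [Algebra.FiniteType k A]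
  [Ring.KrullDimLE 1 A] [Field P] [Algebra k P] [IsPurelyInseparable k P] [PerfectField P]

/-- After a large enough finite extension, the normalised reduced base change is smooth. -/
theorem exists_smooth_integralClosure :
    ∃ L₀ : IntermediateField k P, Module.Finite k L₀ ∧ ∀ L : IntermediateField k P, L₀ ≤ L →
      ∀ (R' K' C' : Type u) [CommRing R'] [IsDomain R'] [Algebra L R'] [Field K'] [Algebra R' K']
        [IsFractionRing R' K'] [CommRing C'] [Algebra R' C'] [Algebra C' K'] [IsScalarTower R' C' K']
        [IsIntegralClosure C' R' K'] [Algebra L C'] [IsScalarTower L R' C'] (q : L ⊗[k] A →ₐ[L] R'),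
        Function.Surjective q → RingHom.ker q.toRingHom = nilradical (L ⊗[k] A) →
        Algebra.Smooth L C' := by
  classical
  haveI : Algebra.IsAlgebraic k P := inferInstance
  haveI : IsNoetherianRing (P ⊗[k] A) := Groth.L20.GenSmooth.isNoetherianRing_tensor A P
  obtain ⟨G, hG⟩ := Groth.L20.GenSmooth.ideal_fg_tensor (k := k) A P
  haveI := isPrime_nilradical_tensor (k := k) A P
  let R := (P ⊗[k] A) ⧸ nilradical (P ⊗[k] A)
  let F := FractionRing R
  haveI : IsScalarTower P R F := inferInstance
  have hRnag : CAlg.IsNagata R :=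
    Groth.L01.Nagata.isNagata_of_finiteType (R := P) (Groth.L18.NormField.isNagata_field P)
  haveI hfin : Module.Finite R (integralClosure R F) :=
    Groth.L01.Nagata.isN2_of_isNagata hRnag (FractionRing R) inferInstance
  obtain ⟨T, hT⟩ : ∃ T : Finset F, Submodule.span R (T : Set F) =
      Subalgebra.toSubmodule (integralClosure R F) :=
    Module.Finite.iff_fg.mp hfin
  have hsmooth : Algebra.Smooth P (integralClosure R F) := by
    letI : Algebra A (P ⊗[k] A) := (Algebra.TensorProduct.includeRight : A →ₐ[k] P ⊗[k] A).toRingHom.toAlgebra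
    haveI : Algebra.IsIntegral k P := Algebra.IsAlgebraic.isIntegral
    haveI : Algebra.IsIntegral A R := ⟨fun r => by
      obtain ⟨z, rfl⟩ := Ideal.Quotient.mk_surjective r
      induction z using TensorProduct.induction_on with
      | zero => rw [map_zero]; exact isIntegral_zero
      | tmul p a =>
        rw [show p ⊗ₜ[k] a = (p ⊗ₜ[k] (1 : A)) * algebraMap A (P ⊗[k] A) a by
          show _ = _ * ((1 : P) ⊗ₜ[k] a)
          rw [Algebra.TensorProduct.tmul_mul_tmul, mul_one, one_mul], map_mul]
        refine IsIntegral.mul ?_ isIntegral_algebraMap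
        haveI : IsScalarTower k A R := IsScalarTower.of_algebraMap_eq fun c => by
          show algebraMap k R c = Ideal.Quotient.mk _ ((1 : P) ⊗ₜ[k] algebraMap k A c)
          rw [← Algebra.TensorProduct.tmul_one_eq_one_tmul]
          rfl
        exact IsIntegral.tower_top (R := k) ((Algebra.IsIntegral.isIntegral p).map
          ((Ideal.Quotient.mkₐ k _).comp Algebra.TensorProduct.includeLeft))
      | add a b ha hb => rw [map_add]; exact ha.add hb⟩
    haveI : Ring.DimensionLEOne A :=
      ⟨fun {p} hp hprime => ((Ring.krullDimLE_one_iff_of_noZeroDivisors.mp inferInstance) p hp hprime)⟩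
    haveI : Ring.DimensionLEOne R := Ring.DimensionLEOne.of_isIntegral A R
    haveI : Ring.DimensionLEOne (integralClosure R F) := inferInstance
    haveI : IsNoetherianRing (integralClosure R F) := IsNoetherianRing.of_finite R _
    haveI : IsIntegrallyClosed (integralClosure R F) :=
      IsIntegrallyClosed.of_isIntegrallyClosed_of_isIntegrallyClosedIn (integralClosure R F) F
    haveI : IsDedekindDomain (integralClosure R F) :=
      (isDedekindDomain_iff _ (FractionRing (integralClosure R F))).mpr
        ⟨inferInstance, inferInstance, inferInstance, fun hx => IsIntegrallyClosed.isIntegral_iff.mp hx⟩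
    haveI : Algebra.FiniteType P (integralClosure R F) := Algebra.FiniteType.trans (S := R) inferInstance inferInstance
    exact smooth_of_dedekind P _
  -- numerators and denominators
  have hfr : ∀ b : F, ∃ x y : P ⊗[k] A, Ideal.Quotient.mk (nilradical (P ⊗[k] A)) y ≠ 0 ∧
      b * algebraMap R F (Ideal.Quotient.mk _ y) = algebraMap R F (Ideal.Quotient.mk _ x) := fun b => by
    obtain ⟨x, y, hy, rfl⟩ := IsFractionRing.div_surjective (A := R) b
    obtain ⟨x, rfl⟩ := Ideal.Quotient.mk_surjective x
    obtain ⟨y, rfl⟩ := Ideal.Quotient.mk_surjective y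
    exact ⟨x, y, nonZeroDivisors.ne_zero hy,
      div_mul_cancel₀ _ (IsFractionRing.to_map_ne_zero_of_mem_nonZeroDivisors hy)⟩
  choose X Y hY hXY using hfr
  obtain ⟨L₀, hL₀, hS⟩ := Groth.L20.GenSmooth.exists_finite_range_of_finset (k := k)
    (G ∪ T.image X ∪ T.image Y)
  refine ⟨L₀, hL₀, fun L hle R' K' C' _ _ _ _ _ _ _ _ _ _ _ _ _ q hq hqker => ?_⟩
  have hSL : ∀ z ∈ G ∪ T.image X ∪ T.image Y, ∃ w, incl L w = z := fun z hz =>
    Groth.L20.GenSmooth.mem_range_mono hle (hS z hz)
  letI : Algebra L K' := ((algebraMap R' K').comp (algebraMap L R')).toAlgebra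
  haveI : IsScalarTower L R' K' := IsScalarTower.of_algebraMap_eq fun _ => rfl
  letI : Algebra k R' := ((algebraMap L R').comp (algebraMap k L)).toAlgebra
  haveI : IsScalarTower k L R' := IsScalarTower.of_algebraMap_eq fun _ => rfl
  let ι : L ⊗[k] A →ₐ[L] P ⊗[k] A :=
    Algebra.TensorProduct.map (Algebra.ofId L P) (AlgHom.id k A)
  have hιincl : ∀ z, ι z = incl L z := fun z => (Groth.L20.GenSmooth.map_ofId_eq z).trans rfl
  let q' : L ⊗[k] A →ₐ[L] R := (Ideal.Quotient.mkₐ L (nilradical (P ⊗[k] A))).comp ι
  have hle' : RingHom.ker q.toRingHom ≤ RingHom.ker q'.toRingHom := fun z hz => by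
    rw [hqker, mem_nilradical] at hz
    exact Ideal.Quotient.eq_zero_iff_mem.mpr (mem_nilradical.mpr (hz.map ι))
  let φ : R' →ₐ[L] R := AlgHom.liftOfSurjective q hq q' hle'
  have hφq : ∀ z, φ (q z) = q' z := fun z => AlgHom.liftOfSurjective_apply q hq q' hle' z
  have hφ : Function.Bijective (Algebra.TensorProduct.lift (Algebra.ofId P R) φ fun _ _ => .all _ _) := by
    set M := Algebra.TensorProduct.lift (Algebra.ofId P R) φ fun _ _ => .all _ _
    let Ψ : P ⊗[k] A →ₐ[P] P ⊗[L] R' := Algebra.TensorProduct.lift (Algebra.ofId P _)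
      (((Algebra.TensorProduct.includeRight : R' →ₐ[L] P ⊗[L] R').restrictScalars k).comp
        ((q.restrictScalars k).comp Algebra.TensorProduct.includeRight)) (fun _ _ => .all _ _)
    have hΨ : ∀ x, Ψ (ι x) = (1 : P) ⊗ₜ[L] q x := fun x => by
      induction x using TensorProduct.induction_on with
      | zero => rw [map_zero, map_zero, map_zero, TensorProduct.tmul_zero]
      | tmul a b =>
        rw [show ι (a ⊗ₜ b) = algebraMap L P a ⊗ₜ[k] b from rfl,
          show Ψ (algebraMap L P a ⊗ₜ[k] b) = algebraMap P (P ⊗[L] R') (algebraMap L P a) *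
            ((1 : P) ⊗ₜ[L] q (1 ⊗ₜ[k] b)) from Algebra.TensorProduct.lift_tmul _ _ _ _ _,
          Algebra.TensorProduct.algebraMap_apply, Algebra.algebraMap_self, RingHom.id_apply,
          Algebra.TensorProduct.tmul_mul_tmul, mul_one, one_mul,
          show a ⊗ₜ[k] b = a • ((1 : L) ⊗ₜ[k] b) by rw [TensorProduct.smul_tmul', smul_eq_mul, mul_one],
          map_smul, TensorProduct.tmul_smul, TensorProduct.smul_tmul', Algebra.smul_def, mul_one]
      | add a b ha hb => rw [map_add, map_add, ha, hb, map_add, TensorProduct.tmul_add]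
    have hker : nilradical (P ⊗[k] A) ≤ RingHom.ker Ψ.toRingHom := by
      rw [← hG, Ideal.span, Submodule.span_le]
      intro g hg
      obtain ⟨w, rfl⟩ := hSL g (Finset.mem_union_left _ (Finset.mem_union_left _ hg))
      show Ψ (incl L w) = 0
      have hnil : IsNilpotent (incl L w) := mem_nilradical.mp (hG ▸ Ideal.subset_span hg)
      obtain ⟨m, hm⟩ := hnil
      rw [← map_pow] at hm
      have hw : q w = 0 := by
        show w ∈ RingHom.ker q.toRingHom
        rw [hqker, mem_nilradical]
        exact ⟨m, Groth.L20.GenSmooth.incl_injective L (hm.trans (map_zero _).symm)⟩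
      rw [← hιincl, hΨ, hw, TensorProduct.tmul_zero]
    let Ψ' : R →ₐ[P] P ⊗[L] R' := Ideal.Quotient.liftₐ _ Ψ hker
    have h1 : ∀ z, Ψ' (M z) = z := fun z => by
      induction z using TensorProduct.induction_on with
      | zero => rw [map_zero, map_zero]
      | tmul p r =>
        obtain ⟨x, rfl⟩ := hq r
        rw [show M (p ⊗ₜ q x) = algebraMap P R p * φ (q x) from Algebra.TensorProduct.lift_tmul _ _ _ _ _,
          hφq, map_mul, AlgHom.commutes, show Ψ' (q' x) = Ψ (ι x) from rfl, hΨ,
          Algebra.TensorProduct.algebraMap_apply, Algebra.algebraMap_self, RingHom.id_apply,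
          Algebra.TensorProduct.tmul_mul_tmul, mul_one, one_mul]
      | add a b ha hb => rw [map_add, map_add, ha, hb]
    refine ⟨Function.LeftInverse.injective h1, fun r => ?_⟩
    obtain ⟨z, rfl⟩ := Ideal.Quotient.mk_surjective r
    refine ⟨Ψ z, ?_⟩
    induction z using TensorProduct.induction_on with
    | zero => rw [map_zero, map_zero, map_zero]
    | tmul p a =>
      rw [show Ψ (p ⊗ₜ a) = algebraMap P (P ⊗[L] R') p * ((1 : P) ⊗ₜ[L] q (1 ⊗ₜ[k] a)) from
        Algebra.TensorProduct.lift_tmul _ _ _ _ _, map_mul, AlgHom.commutes,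
        show M ((1 : P) ⊗ₜ[L] q (1 ⊗ₜ[k] a)) = algebraMap P R 1 * φ (q (1 ⊗ₜ[k] a)) from
          Algebra.TensorProduct.lift_tmul _ _ _ _ _, map_one, one_mul, hφq]
      show Ideal.Quotient.mk _ (algebraMap P (P ⊗[k] A) p) *
        Ideal.Quotient.mk _ (algebraMap L P 1 ⊗ₜ[k] a) = _
      rw [← map_mul, Algebra.TensorProduct.algebraMap_apply, Algebra.TensorProduct.tmul_mul_tmul,
        map_one, Algebra.algebraMap_self, RingHom.id_apply, mul_one, one_mul]
    | add a b ha hb => simp only [map_add, ha, hb]
  haveI := hsmooth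
  have h0 : Algebra.Smooth L (integralClosure R' K') := by
    refine smooth_integralClosure_descend φ hφ T hT fun b hb => ?_
    obtain ⟨wx, hwx⟩ := hSL (X b) (Finset.mem_union_left _ (Finset.mem_union_right _ (Finset.mem_image_of_mem X hb)))
    obtain ⟨wy, hwy⟩ := hSL (Y b) (Finset.mem_union_right _ (Finset.mem_image_of_mem Y hb))
    have hq'x : φ (q wx) = Ideal.Quotient.mk _ (X b) := by rw [hφq, ← hwx, ← hιincl]; rfl
    have hq'y : φ (q wy) = Ideal.Quotient.mk _ (Y b) := by rw [hφq, ← hwy, ← hιincl]; rfl
    exact ⟨q wx, q wy, hq'y ▸ hY b, by rw [hq'x, hq'y]; exact hXY b⟩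
  exact Algebra.Smooth.of_equiv
    ((IsIntegralClosure.equiv R' C' K' (integralClosure R' K')).restrictScalars L).symm

end Groth.L05.CurveNorm
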