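import Groth.Agent.L05.CurveNorm.Algebra
import Groth.Agent.L20.RedGeneric
import Groth.Agent.L20.GenExt.Basic
import Groth.Agent.L22.Norm.Affine
import Mathlib.AlgebraicGeometry.Morphisms.UniversallyInjective
import Mathlib.AlgebraicGeometry.Morphisms.Smooth

/-!
# The normalisation of a curve becomes smooth after a purely inseparable extension
-/

set_option autoImplicit false
set_option linter.style.haveILetI false
set_option maxSynthPendingDepth 3
set_option backward.isDefEq.respectTransparency.types false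
set_option backward.isDefEq.respectTransparency false

universe u

open CategoryTheory CategoryTheory.Limits AlgebraicGeometry TensorProduct

namespace Groth.L05.CurveNorm

variable (k : Type u) [Field k] (L : Type u) [Field L] [Algebra k L]

/-- The morphism of spectra of a field extension. -/
noncomputable abbrev ext : Spec (CommRingCat.of L) ⟶ Spec (CommRingCat.of k) :=
  Spec.map (CommRingCat.ofHom (algebraMap k L))

theorem universallyInjective_ext [IsPurelyInseparable k L] : UniversallyInjective (ext k L) := by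
  refine ((tfae_universallyInjective (ext k L)).out 0 1).mpr ?_
  intro K hK g₁ g₂ h
  letI := hK
  obtain ⟨φ₁, rfl⟩ := Spec.map_surjective g₁
  obtain ⟨φ₂, rfl⟩ := Spec.map_surjective g₂
  simp only [ext, ← Spec.map_comp] at h
  congr 1
  refine CommRingCat.hom_ext (IsPurelyInseparable.injective_comp_algebraMap k L K ?_)
  exact congrArg CommRingCat.Hom.hom (Spec.map_injective h)

variable (X : Scheme.{u}) [X.Over (Spec (CommRingCat.of k))]

theorem isFinite_ext [Module.Finite k L] : IsFinite (ext k L) :=
  (IsFinite.SpecMap_iff _).mpr (RingHom.finite_algebraMap.mpr inferInstance)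

theorem surjective_ext : Surjective (ext k L) :=
  ⟨fun p => ⟨(⊥ : PrimeSpectrum L), Subsingleton.elim (α := PrimeSpectrum k) _ p⟩⟩

theorem isHomeomorph_bcFst [Module.Finite k L] [IsPurelyInseparable k L] :
    IsHomeomorph (Curv2.bcFst k X L).base := by
  haveI := universallyInjective_ext k L
  haveI := isFinite_ext k L
  haveI := surjective_ext k L
  haveI : UniversallyInjective (Curv2.bcFst k X L) :=
    MorphismProperty.pullback_fst (P := @UniversallyInjective) _ _ inferInstance
  haveI : IsFinite (Curv2.bcFst k X L) := MorphismProperty.pullback_fst (P := @IsFinite) _ _ inferInstance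
  haveI : Surjective (Curv2.bcFst k X L) := MorphismProperty.pullback_fst (P := @Surjective) _ _ inferInstance
  exact isHomeomorph_iff_continuous_isClosedMap_bijective.mpr
    ⟨(Curv2.bcFst k X L).continuous, (Curv2.bcFst k X L).isClosedMap,
      (Curv2.bcFst k X L).injective, (Curv2.bcFst k X L).surjective⟩

/-- The reduced base change. -/
noncomputable abbrev Red : Scheme.{u} := (Curv2.bc k X L).nilradical.subscheme

theorem isHomeomorph_redFst [Module.Finite k L] [IsPurelyInseparable k L] :
    IsHomeomorph ((Curv2.bc k X L).nilradical.subschemeι ≫ Curv2.bcFst k X L).base := by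
  have hι : IsHomeomorph (Curv2.bc k X L).nilradical.subschemeι.base := by
    refine isHomeomorph_iff_continuous_isClosedMap_bijective.mpr
      ⟨Scheme.Hom.continuous _, Scheme.Hom.isClosedMap _, Scheme.Hom.isEmbedding _ |>.injective, ?_⟩
    rw [← Set.range_eq_univ]
    exact (Scheme.IdealSheafData.range_subschemeι _).trans (by rw [Scheme.support_nilradical]; rfl)
  rw [Scheme.Hom.comp_base]
  exact (isHomeomorph_bcFst k L X).comp hι

theorem isIntegral_red [IsIntegral X] [Module.Finite k L] [IsPurelyInseparable k L] :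
    IsIntegral (Red k L X) := by
  haveI := Groth.L20.RedGeneric.isReduced_nilradical_subscheme (Curv2.bc k X L)
  have e := (isHomeomorph_redFst k L X).homeomorph
  haveI : IrreducibleSpace ↥(Red k L X) :=
    { toNonempty := ⟨e.symm (genericPoint X)⟩
      isPreirreducible_univ := by
        have := (IrreducibleSpace.isIrreducible_univ ↥X).isPreirreducible.image
          e.symm e.symm.continuous.continuousOn
        rwa [Set.image_univ, e.symm.surjective.range_eq] at this }
  exact isIntegral_of_irreducibleSpace_of_isReduced _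

variable {k X}

/-- The structure of an algebra on the sections over an affine open. -/
@[instance_reducible] noncomputable def secAlg {Y : Scheme.{u}} {V : Y.Opens} (hV : IsAffineOpen V)
    (g : Y ⟶ Spec (CommRingCat.of k)) : Algebra k Γ(Y, V) :=
  (Spec.preimage (hV.fromSpec ≫ g)).hom.toAlgebra

theorem specMap_secAlg {Y : Scheme.{u}} {V : Y.Opens} (hV : IsAffineOpen V)
    (g : Y ⟶ Spec (CommRingCat.of k)) :
    letI := secAlg hV g
    Spec.map (CommRingCat.ofHom (algebraMap k Γ(Y, V))) = hV.fromSpec ≫ g :=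
  Spec.map_preimage _

theorem finiteType_secAlg {Y : Scheme.{u}} {V : Y.Opens} (hV : IsAffineOpen V)
    (g : Y ⟶ Spec (CommRingCat.of k)) [LocallyOfFiniteType g] :
    letI := secAlg hV g
    Algebra.FiniteType k Γ(Y, V) := by
  letI := secAlg hV g
  have h : LocallyOfFiniteType (Spec.map (CommRingCat.ofHom (algebraMap k Γ(Y, V)))) := by
    rw [specMap_secAlg hV g]
    infer_instance
  exact RingHom.finiteType_algebraMap.mp
    ((HasRingHomProperty.Spec_iff (P := @LocallyOfFiniteType)).mp h)

theorem krullDimLE_sections [IsIntegral X] (hdim : topologicalKrullDim X ≤ 1) {U : X.Opens}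
    (hU : IsAffineOpen U) : Ring.KrullDimLE 1 Γ(X, U) := by
  rw [Ring.krullDimLE_iff, ← PrimeSpectrum.topologicalKrullDim_eq_ringKrullDim]
  exact (hU.fromSpec.isOpenEmbedding.isInducing.topologicalKrullDim_le).trans hdim

theorem smooth_norm_chart [IsIntegral X] [LocallyOfFiniteType (X ↘ Spec (CommRingCat.of k))]
    (hdim : topologicalKrullDim X ≤ 1)
    (P : Type u) [Field P] [Algebra k P] [IsPurelyInseparable k P] [PerfectField P] {U : X.Opens}
    (hU : IsAffineOpen U) (hne : (U : Set X).Nonempty) :
    ∃ L₀ : IntermediateField k P, Module.Finite k L₀ ∧ ∀ L : IntermediateField k P, L₀ ≤ L →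
      Module.Finite k L →
      ∀ (_ : IsIntegral (Red k L X))
        (_ : QuasiCompact ((Red k L X).fromSpecStalk (genericPoint (Red k L X))))
        (_ : QuasiSeparated ((Red k L X).fromSpecStalk (genericPoint (Red k L X)))),
        Smooth ((Curv2.normalizationι (Red k L X) ⁻¹ᵁ
            (((Curv2.bc k X L).nilradical.subschemeι ≫ Curv2.bcFst k X L) ⁻¹ᵁ U)).ι ≫
          Curv2.normalizationι (Red k L X) ≫ (Curv2.bc k X L).nilradical.subschemeι ≫
            Curv2.bcSnd k X L) := by
  haveI : Nonempty U := hne.to_subtype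
  letI : Algebra k Γ(X, U) := secAlg hU (X ↘ Spec (CommRingCat.of k))
  haveI : Algebra.FiniteType k Γ(X, U) := finiteType_secAlg hU _
  haveI := krullDimLE_sections hdim hU
  obtain ⟨L₀, hL₀, hmain⟩ := exists_smooth_integralClosure (k := k) (A := Γ(X, U)) (P := P)
  refine ⟨L₀, hL₀, fun L hle hLfin _ _ _ => ?_⟩
  haveI := hLfin
  haveI : IsPurelyInseparable k L := IsPurelyInseparable.tower_bot k L P
  set ι := (Curv2.bc k X L).nilradical.subschemeι
  set str := X ↘ Spec (CommRingCat.of k)
  haveI := isFinite_ext k L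
  haveI : IsFinite (Curv2.bcFst k X L) := MorphismProperty.pullback_fst (P := @IsFinite) _ _ inferInstance
  set V := (ι ≫ Curv2.bcFst k X L) ⁻¹ᵁ U with hVdef
  have hV : IsAffineOpen V := hU.preimage _
  have hVne : (V : Set ↥(Red k L X)).Nonempty := by
    obtain ⟨x, hx⟩ := hne
    obtain ⟨z, rfl⟩ := (isHomeomorph_redFst k L X).surjective x
    exact ⟨z, hx⟩
  haveI : Nonempty V := hVne.to_subtype
  letI : Algebra L Γ(Red k L X, V) := secAlg hV (ι ≫ Curv2.bcSnd k X L)
  -- the comparison with the tensor product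
  have hle' : V ≤ (ι ≫ Curv2.bcFst k X L) ⁻¹ᵁ U := le_rfl
  let θ := (ι ≫ Curv2.bcFst k X L).appLE U V hle'
  letI : Algebra k Γ(Red k L X, V) := ((algebraMap L Γ(Red k L X, V)).comp (algebraMap k L)).toAlgebra
  haveI : IsScalarTower k L Γ(Red k L X, V) := IsScalarTower.of_algebraMap_eq fun _ => rfl
  have hθ : CommRingCat.ofHom (algebraMap k Γ(X, U)) ≫ θ =
      CommRingCat.ofHom (algebraMap k L) ≫ CommRingCat.ofHom (algebraMap L Γ(Red k L X, V)) := by
    apply Spec.map_injective
    rw [Spec.map_comp, Spec.map_comp, specMap_secAlg hU str, ← Category.assoc,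
      IsAffineOpen.SpecMap_appLE_fromSpec _ hU hV hle', specMap_secAlg hV (ι ≫ Curv2.bcSnd k X L)]
    simp only [Category.assoc, str]
    rw [pullback.condition]
  let αA : Γ(X, U) →ₐ[k] Γ(Red k L X, V) :=
    { θ.hom with commutes' := fun c => congrArg (fun φ => φ.hom c) hθ }
  let q : L ⊗[k] Γ(X, U) →ₐ[L] Γ(Red k L X, V) :=
    Algebra.TensorProduct.lift (Algebra.ofId L _) αA fun _ _ => .all _ _
  let Q : CommRingCat.of (L ⊗[k] Γ(X, U)) ⟶ Γ(Red k L X, V) := CommRingCat.ofHom q.toRingHom
  let mU : pullback (ext k L) (Spec.map (CommRingCat.ofHom (algebraMap k Γ(X, U)))) ⟶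
      pullback (ext k L) str :=
    pullback.map _ _ _ _ (𝟙 _) hU.fromSpec (𝟙 _) (by simp)
      (by rw [Category.comp_id, specMap_secAlg hU str])
  let j : Spec (CommRingCat.of (L ⊗[k] Γ(X, U))) ⟶ Curv2.bc k X L :=
    (pullbackSpecIso k L Γ(X, U)).inv ≫ mU ≫ (pullbackSymmetry _ _).hom
  have hjfst : j ≫ Curv2.bcFst k X L =
      Spec.map (CommRingCat.ofHom (Algebra.TensorProduct.includeRight :
        Γ(X, U) →ₐ[k] L ⊗[k] Γ(X, U)).toRingHom) ≫ hU.fromSpec := by
    show ((pullbackSpecIso k L Γ(X, U)).inv ≫ mU ≫ (pullbackSymmetry _ _).hom) ≫ pullback.fst _ _ = _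
    simp only [mU, Category.assoc, pullbackSymmetry_hom_comp_fst, pullback.lift_snd,
      pullbackSpecIso_inv_snd_assoc]
    rfl
  have hjsnd : j ≫ Curv2.bcSnd k X L =
      Spec.map (CommRingCat.ofHom (Algebra.TensorProduct.includeLeftRingHom :
        L →+* L ⊗[k] Γ(X, U))) := by
    show ((pullbackSpecIso k L Γ(X, U)).inv ≫ mU ≫ (pullbackSymmetry _ _).hom) ≫ pullback.snd _ _ = _
    simp only [mU, Category.assoc, pullbackSymmetry_hom_comp_snd, pullback.lift_fst,
      Category.comp_id, pullbackSpecIso_inv_fst]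
  have hQj : Spec.map Q ≫ j = hV.fromSpec ≫ ι := by
    apply pullback.hom_ext
    · change (Spec.map Q ≫ j) ≫ Curv2.bcFst k X L = (hV.fromSpec ≫ ι) ≫ Curv2.bcFst k X L
      rw [Category.assoc, hjfst, ← Category.assoc, ← Spec.map_comp, Category.assoc,
        ← IsAffineOpen.SpecMap_appLE_fromSpec _ hU hV hle']
      congr 2
      refine CommRingCat.hom_ext (RingHom.ext fun a => ?_)
      show q ((1 : L) ⊗ₜ[k] a) = θ.hom a
      rw [Algebra.TensorProduct.lift_tmul, map_one, one_mul]
      rfl
    · change (Spec.map Q ≫ j) ≫ Curv2.bcSnd k X L = (hV.fromSpec ≫ ι) ≫ Curv2.bcSnd k X L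
      rw [Category.assoc, hjsnd, ← Spec.map_comp, Category.assoc,
        ← specMap_secAlg hV (ι ≫ Curv2.bcSnd k X L)]
      congr 1
      refine CommRingCat.hom_ext (RingHom.ext fun c => ?_)
      show q (c ⊗ₜ[k] (1 : Γ(X, U))) = algebraMap L _ c
      rw [Algebra.TensorProduct.lift_tmul, map_one, mul_one]
      rfl
  have hjrange : Set.range j.base = (Curv2.bcFst k X L).base ⁻¹' U := by
    refine Set.Subset.antisymm ?_ fun z hz => ?_
    · rintro _ ⟨w, rfl⟩
      have h := congrArg (fun φ : Spec (CommRingCat.of (L ⊗[k] Γ(X, U))) ⟶ X => φ.base w) hjfst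
      simp only [Scheme.Hom.comp_base, TopCat.comp_app] at h
      rw [Set.mem_preimage, h, ← hU.range_fromSpec]
      exact ⟨_, rfl⟩
    · obtain ⟨w, rfl⟩ := (pullbackSymmetry (ext k L) str).hom.surjective z
      have hw : w ∈ Set.range mU.base := by
        rw [Scheme.Pullback.range_map]
        refine ⟨⟨_, rfl⟩, ?_⟩
        show (pullback.snd (ext k L) str).base w ∈ Set.range hU.fromSpec.base
        rw [show Set.range hU.fromSpec.base = (U : Set X) from hU.range_fromSpec]
        have h := congrArg (fun φ : pullback (ext k L) str ⟶ X => φ.base w)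
          (pullbackSymmetry_hom_comp_fst (ext k L) str)
        simp only [Scheme.Hom.comp_base, TopCat.comp_app] at h
        rw [← h]
        exact hz
      obtain ⟨w', rfl⟩ := hw
      obtain ⟨w'', rfl⟩ := (pullbackSpecIso k L Γ(X, U)).inv.surjective w'
      exact ⟨w'', rfl⟩
  have hQsurj : Function.Surjective (Spec.map Q).base := by
    intro w
    have hw : j.base w ∈ (Curv2.bcFst k X L).base ⁻¹' U := hjrange ▸ ⟨w, rfl⟩
    have hsurj : Function.Surjective ι.base := by
      rw [← Set.range_eq_univ]
      exact (Scheme.IdealSheafData.range_subschemeι _).trans (by rw [Scheme.support_nilradical]; rfl)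
    obtain ⟨z, hz⟩ := hsurj (j.base w)
    have hzV : z ∈ V := by
      show (Curv2.bcFst k X L).base (ι.base z) ∈ U
      rw [hz]; exact hw
    obtain ⟨w', rfl⟩ : z ∈ Set.range hV.fromSpec.base := by rw [hV.range_fromSpec]; exact hzV
    refine ⟨w', j.isOpenEmbedding.injective ?_⟩
    have h := congrArg (fun φ : Spec Γ(Red k L X, V) ⟶ Curv2.bc k X L => φ.base w') hQj
    simp only [Scheme.Hom.comp_base, TopCat.comp_app] at h
    rw [h]; exact hz
  haveI : IsImmersion (Spec.map Q) := by
    haveI : IsImmersion (Spec.map Q ≫ j) := by rw [hQj]; infer_instance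
    exact IsImmersion.of_comp (Spec.map Q) j
  haveI : IsClosedImmersion (Spec.map Q) := IsClosedImmersion.of_isPreimmersion _
    (by rw [Set.range_eq_univ.mpr hQsurj]; exact isClosed_univ)
  have hqsurj : Function.Surjective q := by
    intro x
    obtain ⟨y, hy⟩ := (IsClosedImmersion.isAffine_surjective_of_isAffine (f := Spec.map Q)).2
      ((Scheme.ΓSpecIso _).inv.hom x)
    refine ⟨(Scheme.ΓSpecIso _).hom.hom y, ?_⟩
    have h := congrArg (fun φ => φ.hom y) (Scheme.ΓSpecIso_naturality Q)
    simp only [CommRingCat.hom_comp, RingHom.comp_apply] at h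
    show Q.hom _ = x
    rw [← h, hy]
    exact congrArg (fun φ => φ.hom x) (Scheme.ΓSpecIso _).inv_hom_id
  haveI := Groth.L20.RedGeneric.isReduced_nilradical_subscheme (Curv2.bc k X L)
  have hqker : RingHom.ker q.toRingHom = nilradical (L ⊗[k] Γ(X, U)) := by
    refine le_antisymm (fun x hx => ?_) fun x hx => ?_
    · rw [nilradical_eq_sInf, Ideal.mem_sInf]
      intro p hp
      obtain ⟨p', hp'⟩ := hQsurj ⟨p, hp⟩
      have : p'.asIdeal.comap q.toRingHom = p := congrArg PrimeSpectrum.asIdeal hp'
      rw [← this, Ideal.mem_comap, RingHom.mem_ker.mp hx]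
      exact zero_mem _
    · exact ((mem_nilradical.mp hx).map q.toRingHom).eq_zero
  -- the normalisation over `V`
  set N := Curv2.normalizationι (Red k L X)
  haveI : IsIntegralHom N :=
    inferInstanceAs (IsIntegralHom ((Red k L X).fromSpecStalk (genericPoint (Red k L X))).fromNormalization)
  letI : Algebra Γ(Red k L X, V) Γ(Curv2.normalization (Red k L X), N ⁻¹ᵁ V) := (N.app V).hom.toAlgebra
  obtain ⟨κ, hT, hIC⟩ := Groth.L22.Norm.exists_isIntegralClosure (Red k L X) hV hVne
  letI := κ.toAlgebra
  haveI := hT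
  haveI := hIC
  haveI : IsFractionRing Γ(Red k L X, V) (Red k L X).functionField :=
    functionField_isFractionRing_of_isAffineOpen _ V hV
  letI : Algebra L Γ(Curv2.normalization (Red k L X), N ⁻¹ᵁ V) :=
    ((N.app V).hom.comp (algebraMap L Γ(Red k L X, V))).toAlgebra
  haveI : IsScalarTower L Γ(Red k L X, V) Γ(Curv2.normalization (Red k L X), N ⁻¹ᵁ V) :=
    IsScalarTower.of_algebraMap_eq fun _ => rfl
  haveI hsm : Algebra.Smooth L Γ(Curv2.normalization (Red k L X), N ⁻¹ᵁ V) :=
    hmain L hle Γ(Red k L X, V) (Red k L X).functionField Γ(Curv2.normalization (Red k L X), N ⁻¹ᵁ V)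
      q hqsurj hqker
  have hW : IsAffineOpen (N ⁻¹ᵁ V) := hV.preimage N
  have hspec : Spec.map (CommRingCat.ofHom (algebraMap L Γ(Curv2.normalization (Red k L X), N ⁻¹ᵁ V))) =
      hW.fromSpec ≫ N ≫ ι ≫ Curv2.bcSnd k X L := by
    rw [← Category.assoc, ← IsAffineOpen.SpecMap_appLE_fromSpec N hV hW le_rfl, Category.assoc,
      ← specMap_secAlg hV (ι ≫ Curv2.bcSnd k X L), ← Spec.map_comp, ← Scheme.Hom.app_eq_appLE]
    rfl
  have hsmW : Smooth (hW.fromSpec ≫ N ≫ ι ≫ Curv2.bcSnd k X L) := by
    rw [← hspec]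
    exact (HasRingHomProperty.Spec_iff (P := @Smooth)).mpr (RingHom.smooth_algebraMap.mpr hsm)
  rw [show (N ⁻¹ᵁ V).ι = hW.isoSpec.hom ≫ hW.fromSpec from hW.isoSpec_hom_fromSpec.symm, Category.assoc]
  haveI := hsmW
  infer_instance

/-- The normalised reduced base change of a curve is smooth after a finite purely inseparable extension. -/
theorem exists_smooth_normalization (k : Type u) [Field k]
    (X : Scheme.{u}) [X.Over (Spec (CommRingCat.of k))] [IsIntegral X]
    [LocallyOfFiniteType (X ↘ Spec (CommRingCat.of k))] [QuasiCompact (X ↘ Spec (CommRingCat.of k))]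
    (hdim : topologicalKrullDim X ≤ 1) :
    ∃ (k' : Type u) (_ : Field k') (_ : Algebra k k'), FiniteDimensional k k' ∧ IsPurelyInseparable k k' ∧
      ∃ (_ : IsIntegral (Curv2.bc k X k').nilradical.subscheme)
        (_ : QuasiCompact ((Curv2.bc k X k').nilradical.subscheme.fromSpecStalk
              (genericPoint (Curv2.bc k X k').nilradical.subscheme)))
        (_ : QuasiSeparated ((Curv2.bc k X k').nilradical.subscheme.fromSpecStalk
              (genericPoint (Curv2.bc k X k').nilradical.subscheme))),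
        Smooth (Curv2.normalizationι (Curv2.bc k X k').nilradical.subscheme ≫
          (Curv2.bc k X k').nilradical.subschemeι ≫ Curv2.bcSnd k X k') := by
  classical
  haveI : CompactSpace X := QuasiCompact.compactSpace_of_compactSpace (X ↘ Spec (CommRingCat.of k))
  let P := perfectClosure k (AlgebraicClosure k)
  let C := X.affineCover.finiteSubcover
  have hopen : ∀ i, IsAffineOpen (C.f i).opensRange := fun i => isAffineOpen_opensRange (C.f i)
  have hch : ∀ i, ∃ L₀ : IntermediateField k P, Module.Finite k L₀ ∧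
      (((C.f i).opensRange : Set X).Nonempty → ∀ L : IntermediateField k P, L₀ ≤ L → Module.Finite k L →
      ∀ (_ : IsIntegral (Red k L X))
        (_ : QuasiCompact ((Red k L X).fromSpecStalk (genericPoint (Red k L X))))
        (_ : QuasiSeparated ((Red k L X).fromSpecStalk (genericPoint (Red k L X)))),
        Smooth ((Curv2.normalizationι (Red k L X) ⁻¹ᵁ
            (((Curv2.bc k X L).nilradical.subschemeι ≫ Curv2.bcFst k X L) ⁻¹ᵁ (C.f i).opensRange)).ι ≫
          Curv2.normalizationι (Red k L X) ≫ (Curv2.bc k X L).nilradical.subschemeι ≫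
            Curv2.bcSnd k X L)) := by
    intro i
    by_cases hne : ((C.f i).opensRange : Set X).Nonempty
    · obtain ⟨L₀, h1, h2⟩ := smooth_norm_chart (k := k) hdim P (hopen i) hne
      exact ⟨L₀, h1, fun _ => h2⟩
    · exact ⟨⊥, inferInstance, fun h => absurd h hne⟩
  choose L₀ hfin hL₀ using hch
  let L : IntermediateField k P := ⨆ i, L₀ i
  haveI := hfin
  haveI hLfin : Module.Finite k L := IntermediateField.finiteDimensional_iSup_of_finite
  haveI : IsPurelyInseparable k L := IsPurelyInseparable.tower_bot k L P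
  haveI hint := isIntegral_red k L X
  haveI hqc := Groth.L20.GenExt.quasiCompact_generic (Red k L X)
  haveI hqs : QuasiSeparated ((Red k L X).fromSpecStalk (genericPoint (Red k L X))) := inferInstance
  refine ⟨L, inferInstance, inferInstance, hLfin, inferInstance, hint, hqc, hqs, ?_⟩
  set π := (Curv2.bc k X L).nilradical.subschemeι ≫ Curv2.bcFst k X L
  have hcov : ⨆ i : {i // ((C.f i).opensRange : Set X).Nonempty},
      Curv2.normalizationι (Red k L X) ⁻¹ᵁ (π ⁻¹ᵁ (C.f i.1).opensRange) = ⊤ := by
    refine top_le_iff.mp fun z _ => ?_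
    obtain ⟨i, x, hx⟩ := C.exists_eq (π (Curv2.normalizationι (Red k L X) z))
    exact TopologicalSpace.Opens.mem_iSup.mpr ⟨⟨i, ⟨_, x, rfl⟩⟩, ⟨x, hx⟩⟩
  rw [IsZariskiLocalAtSource.iff_of_iSup_eq_top (P := @Smooth) _ hcov]
  intro i
  exact hL₀ i.1 i.2 L (le_iSup L₀ i.1) hLfin hint hqc hqs

end Groth.L05.CurveNorm
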